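import Cfsg.Agent.Lib.HeLocal.Pattern.Data

/-!
# Finite facts about the centralizer of the fourth representative

`six` says whether the seventh class is conjugate to the centre.  The lists: `rs` the conjugates of `z`
inside `C(z)` under the centralizer of the fourth representative, `f2` and `ks` involutions whose common
centralizer with the fourth representative lies in `C(z)`.
-/

set_option autoImplicit false
set_option maxRecDepth 100000

namespace Cfsg.Agent.HeLocal.Code

/-- The classes conjugate to the centre. -/
def inDc (six : Bool) (i : ℕ) : Bool := memL i [0, 1, 2, 4] || (six && Nat.beq i 6)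

def rs (six : Bool) : List ℕ :=
  bif six then [17043523, 17043537, 17043539, 17043545, 17043547, 17051713, 17053771, 17059915, 17059929,
    17061963, 17061979, 17068107, 17068113, 17070155, 17070163] else [17043523, 17051713, 17053771]

def f2 : List ℕ := [17043529, 17043531, 17045569, 17045571, 17051721, 17053761]

def ks (six : Bool) : List ℕ :=
  bif six then [19140673, 19140675, 19142721, 19142723]
  else [17043537, 17043539, 17043545, 17043547, 19140673, 19140675, 19142721, 19142723]

def ksA (six : Bool) : ℕ := bif six then 19140673 else 17043537

def ksB (six : Bool) : ℕ := bif six then 19142721 else 17043545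

def killBase (six : Bool) : List ℕ := rs six ++ f2 ++ ks six

/-- Involutions whose common centralizer with the fourth representative is settled. -/
def kills (six : Bool) : List ℕ := killBase six ++ (killBase six).map (mulF (repc 3))

/-- In the centralizer of the `i`th representative, conjugate to the centre. -/
def inCD (six : Bool) (i a : ℕ) : Bool := cm a (repc i) && inDc six (tagS a)

/-- In `inCD`, with the product again conjugate to the centre. -/
def isX (six : Bool) (i a : ℕ) : Bool := inCD six i a && inDc six (tagS (mulF a (repc i)))

/-- The involutions of the centralizer with the same classes as `a`. -/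
def sameClass (a b : ℕ) : Bool :=
  cm b (repc 3) && Nat.beq (tagS b) (tagS a) && Nat.beq (tagS (mulF b (repc 3))) (tagS (mulF a (repc 3)))

def classBound (a : ℕ) : ℕ := invCodes.countP (sameClass a)

def rsOK (six : Bool) (r : ℕ) : Bool :=
  inK r && isInv r && inCD six 3 r && !inDc six (tagS (mulF r (repc 3))) &&
    (rs six).all (cm r) && (Nat.ble (classBound r) 2 || (six && (invCodes.all fun q => !isX six 3 q || cm r q))) &&
    ((!six) || (invCodes.all fun q => !isX six 3 q || cm r q)) &&
    (Nat.beq r (repc 0) || memL (mulF (repc 0) r) (rs six) || memL (mulF (repc 3) (mulF (repc 0) r)) (rs six) ||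
      isX six 3 (mulF (repc 0) r))

def f2OK (six : Bool) (x : ℕ) : Bool := inK x && isInv x && isX six 3 x && Nat.ble (classBound x) 2

def ksOK (six : Bool) (s : ℕ) : Bool :=
  inK s && isInv s && inCD six 3 s && !inDc six (tagS (mulF s (repc 3))) && !memL s (rs six) &&
    Nat.ble (classBound s) 4

/-- An involution not in `rs`: the elements of `isX` commuting with it are in `f2`, and the centralizer of one
of them does not centralize it. -/
def otherOK (six : Bool) (a : ℕ) : Bool :=
  (invCodes.all fun q => !isX six 3 q || !cm a q || memL q f2) &&
    f2.any fun x => cm a x && invCodes.any fun d => cm d (repc 3) && cm d x && !cm d a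

theorem rs_ok : ∀ six : Bool, (rs six).all (rsOK six) = true := by decide +kernel

theorem rs_list : ∀ six : Bool, (rs six).Nodup ∧ (rs six).length = (bif six then 15 else 3) ∧
    memL (repc 0) (rs six) = true := by decide +kernel

theorem f2_ok : ∀ six : Bool, f2.all (f2OK six) = true := by decide +kernel

theorem ks_ok : ∀ six : Bool, (ks six).all (ksOK six) = true ∧ memL (ksA six) (ks six) = true ∧
    memL (ksB six) (ks six) = true := by decide +kernel

theorem others_ok : ∀ six : Bool, (invCodes.all fun a => !inCD six 3 a || inDc six (tagS (mulF a (repc 3))) ||
    memL a (rs six) || otherOK six a) = true := by decide +kernel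

theorem x_counts : invCodes.countP (isX true 3) = 30 ∧ invCodes.countP (isX true 7) = 6 ∧ f2.length = 6 ∧
    f2.Nodup ∧ (invCodes.all fun q => !isX false 3 q || memL q f2) = true := by decide +kernel

theorem ab_ok : ∀ six : Bool, ((rs six).all fun r => !cm (ksA six) r || (rs six).all fun q =>
    !cm (ksB six) q || memL (mulF (ksA six) r) (kills six) || memL (mulF (ksB six) q) (kills six) ||
      memL (mulF (mulF (ksA six) r) (mulF (ksB six) q)) (kills six)) = true := by decide +kernel

theorem code_lists : ∀ six : Bool, (rs six).all inK = true ∧ inK (ksA six) = true ∧ inK (ksB six) = true := by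
  decide +kernel

end Cfsg.Agent.HeLocal.Code
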