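import Cfsg.Agent.Lib.HeLocal.Pattern.Classes
import Cfsg.Agent.Lib.HeLocal.CentT.Facts
import Mathlib.GroupTheory.GroupAction.Quotient

/-!
# The centralizer of the second class: the pattern, orbits, reduction to the representatives
-/

set_option autoImplicit false

namespace Cfsg.Agent.HeLocal

open Subgroup Code

attribute [local irreducible] rep el code

namespace CentT

theorem inS_eq : ∀ (six : Bool), ∀ i < 9, inS true true true six false i = inDc six i := by decide

/-- The orders of the centralizers of the classes not conjugate to the centre. -/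
theorem class_order : ∀ six : Bool, ∀ i < 8, inDc six i = false →
    (inDc six (swap45 i) = false → i = 3 ∨ [21504, 1536, 1536, 512, 256, 256, 128, 128].getD i 0 = 128) ∧
    (inDc six (swap45 i) = true → [21504, 1536, 1536, 512, 256, 256, 128, 128].getD i 0 = 256) := by decide

theorem tagS_le (g : Mdl) : tagS (code g) ≤ 8 := by
  rcases em (IsInv g) with h | h
  · rw [tagS, isInv_iff.1 h, cond_true]; exact (tag_lt h).le
  · rw [tagS, Bool.eq_false_iff.2 (fun e => h (isInv_iff.2 e)), cond_false]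

theorem tagS_inv {g : Mdl} (h : IsInv g) : tagS (code g) = tag g := by rw [tagS, isInv_iff.1 h, cond_true]; rfl

theorem isInv_of_tagS {g : Mdl} (h : tagS (code g) ≠ 8) : IsInv g := by
  by_contra e
  exact h (by rw [tagS, Bool.eq_false_iff.2 (fun e' => e (isInv_iff.2 e')), cond_false])

theorem tagS_conj (g k : Mdl) : tagS (code (k * g * k⁻¹)) = tagS (code g) := by
  rcases em (IsInv g) with h | h
  · rw [tagS_inv (h.conj k), tagS_inv h, tag_conj h]
  · have h' : ¬ IsInv (k * g * k⁻¹) := fun e => h (by simpa [mul_assoc] using e.conj k⁻¹)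
    simp only [tagS, Bool.eq_false_iff.2 (fun e => h' (isInv_iff.2 e)),
      Bool.eq_false_iff.2 (fun e => h (isInv_iff.2 e)), cond_false]

theorem inK_invCodes {a : ℕ} (ha : a ∈ invCodes) : inK a = true ∧ isInv a = true := by
  obtain ⟨e, he, rfl⟩ := List.mem_map.1 ha
  have h := List.all_eq_true.1 certs_ok e he
  simp only [certOK, Bool.and_eq_true] at h
  exact ⟨h.1.1.1.1, h.1.1.2⟩

/-- The number of elements with a property of their code, all involutions. -/
theorem card_codes (P : ℕ → Bool) (h : ∀ g : Mdl, P (code g) = true → IsInv g) :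
    Nat.card {g : Mdl // P (code g) = true} = invCodes.countP P := by
  rw [List.countP_eq_length_filter]
  exact card_eq_list (certs_nodup.filter _) (fun a ha => (inK_invCodes (List.mem_filter.1 ha).1).1)
    fun g => ⟨fun hg => List.mem_filter.2 ⟨code_mem_invCodes (h g hg), hg⟩, fun hg => (List.mem_filter.1 hg).2⟩

theorem cm_rep {g : Mdl} {i : ℕ} (hi : i < 8) : cm (code g) (repc i) = true ↔ g * rep i = rep i * g := by
  rw [← code_rep hi, cm_code]

theorem code_mul_rep (g : Mdl) {i : ℕ} (hi : i < 8) : code (g * rep i) = mulF (code g) (repc i) := by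
  rw [code_mul, code_rep hi]

/-- The centralizer of `g` in the centralizer of the fourth representative. -/
def sub3 (g : Mdl) : Subgroup Mdl := centralizer ({rep 3} : Set Mdl) ⊓ centralizer ({g} : Set Mdl)

theorem card_C3 : Nat.card (centralizer ({rep 3} : Set Mdl)) = 512 := by
  rw [card_cent_eq (isInv_rep (by norm_num)), tag_rep (by norm_num)]; rfl

/-- The orbit under the centralizer of the fourth representative is within the elements of equal classes. -/
theorem le_classBound {g : Mdl} (hg : IsInv g) (hc : g * rep 3 = rep 3 * g) :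
    512 ≤ classBound (code g) * Nat.card (sub3 g) := by
  let φ : ↥(centralizer ({rep 3} : Set Mdl)) →* ConjAct Mdl :=
    ConjAct.toConjAct.toMonoidHom.comp (centralizer ({rep 3} : Set Mdl)).subtype
  letI : MulAction ↥(centralizer ({rep 3} : Set Mdl)) Mdl := MulAction.compHom Mdl φ
  have hsmul : ∀ (k : ↥(centralizer ({rep 3} : Set Mdl))) (x : Mdl), k • x = (k : Mdl) * x * (k : Mdl)⁻¹ :=
    fun k x => rfl
  have hst : Nat.card (MulAction.stabilizer ↥(centralizer ({rep 3} : Set Mdl)) g) = Nat.card (sub3 g) := by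
    refine Nat.card_congr
      { toFun := fun k => ⟨k.1.1, mem_inf.2 ⟨k.1.2, mem_centralizer_singleton_iff.2 ?_⟩⟩
        invFun := fun k => ⟨⟨k.1, (mem_inf.1 k.2).1⟩, ?_⟩
        left_inv := fun k => rfl
        right_inv := fun k => rfl }
    · have h := k.2
      rw [MulAction.mem_stabilizer_iff, hsmul, mul_inv_eq_iff_eq_mul] at h
      exact h
    · rw [MulAction.mem_stabilizer_iff, hsmul, mul_inv_eq_iff_eq_mul]
      exact mem_centralizer_singleton_iff.1 (mem_inf.1 k.2).2
  have hmul := (MulAction.stabilizer ↥(centralizer ({rep 3} : Set Mdl)) g).index_mul_card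
  rw [MulAction.index_stabilizer, hst, card_C3] at hmul
  rw [← hmul]
  refine Nat.mul_le_mul_right _ ?_
  have h8 : tagS (code g) < 8 := by rw [tagS_inv hg]; exact tag_lt hg
  rw [classBound, ← card_codes (sameClass (code g)) (fun x hx => isInv_of_tagS (by
      simp only [sameClass, Bool.and_eq_true, Nat.beq_eq] at hx
      rw [hx.1.2]; exact h8.ne)), ← Nat.card_coe_set_eq]
  have hmem : ∀ x ∈ MulAction.orbit ↥(centralizer ({rep 3} : Set Mdl)) g, sameClass (code g) (code x) = true := by
    rintro x ⟨k, rfl⟩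
    have hk := mem_centralizer_singleton_iff.1 k.2
    have e3 : (k : Mdl) * rep 3 * (k : Mdl)⁻¹ = rep 3  := by rw [hk, mul_inv_cancel_right]
    show sameClass (code g) (code ((k : Mdl) * g * (k : Mdl)⁻¹)) = true
    simp only [sameClass, Bool.and_eq_true, Nat.beq_eq]
    refine ⟨⟨(cm_rep (by norm_num)).2 ?_, tagS_conj _ _⟩, ?_⟩
    · conv_lhs => arg 2; rw [← e3]
      conv_rhs => arg 1; rw [← e3]
      rw [show (k : Mdl) * g * (k : Mdl)⁻¹ * ((k : Mdl) * rep 3 * (k : Mdl)⁻¹) =
        (k : Mdl) * (g * rep 3) * (k : Mdl)⁻¹ by group, hc]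
      group
    · rw [← code_mul_rep _ (by norm_num), ← code_mul_rep _ (by norm_num),
        show (k : Mdl) * g * (k : Mdl)⁻¹ * rep 3 = (k : Mdl) * (g * rep 3) * (k : Mdl)⁻¹ by
          conv_lhs => arg 2; rw [← e3]
          group, tagS_conj]
  exact Nat.card_le_card_of_injective
    (fun x : MulAction.orbit ↥(centralizer ({rep 3} : Set Mdl)) g =>
      (⟨x.1, hmem x.1 x.2⟩ : {y : Mdl // sameClass (code g) (code y) = true}))
    fun x y h => Subtype.ext (congrArg (fun w : {y : Mdl // sameClass (code g) (code y) = true} => w.1) h)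

end CentT

namespace Iso

open CentT

variable {G : Type*} [Group G] {z : G} (I : Iso z)

/-- The second class. -/
noncomputable abbrev tW : G := I.ι (rep 3)

/-- The pattern: the classes conjugate to the centre. -/
def Pat (six : Bool) : Prop := ∀ g : Mdl, I.ZType g ↔ inDc six (tagS (code g)) = true

theorem pat_of (S : I.Sides) (h7 : ¬ I.ZType (rep 7)) {six : Bool} (h6 : six = true ↔ I.ZType (rep 6)) :
    I.Pat six := by
  classical
  intro g
  rw [← I.zS_code g]
  have e : zS I = inS true true true six false := by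
    have e6 : decide (I.ZType (rep 6)) = six := by
      cases six <;> simp_all
    rw [zS, decide_eq_true S.one, decide_eq_true S.two, decide_eq_true S.four, decide_eq_false h7, ← e6]
  rw [e, inS_eq six _ (Nat.lt_succ_of_le (tagS_le g))]

/-- Conjugate to `z` under the centralizer of the second class. -/
def InR (y : G) : Prop := ∃ c : G, c * z * c⁻¹ = y ∧ c * I.tW = I.tW * c

/-- The common centralizer with the second class. -/
def CC (y : G) : Subgroup G := centralizer ({y} : Set G) ⊓ centralizer ({I.tW} : Set G)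

theorem mem_CC {y q : G} : q ∈ I.CC y ↔ q * y = y * q ∧ q * I.tW = I.tW * q := by
  rw [CC, mem_inf, mem_centralizer_singleton_iff, mem_centralizer_singleton_iff]

variable {I}

theorem InR.conj {y c : G} (h : I.InR y) (hc : c * I.tW = I.tW * c) : I.InR (c * y * c⁻¹) := by
  obtain ⟨d, rfl, hd⟩ := h
  exact ⟨c * d, by group, by rw [mul_assoc, hd, ← mul_assoc, hc, mul_assoc]⟩

theorem InR.isConj {y : G} (h : I.InR y) : IsConj z y := by
  obtain ⟨c, hc, -⟩ := h
  exact isConj_iff.2 ⟨c, hc⟩

theorem InR.comm {y : G} (h : I.InR y) : y * I.tW = I.tW * y := by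
  obtain ⟨c, rfl, hc⟩ := h
  have hz : Commute z I.tW := (I.ι_comm (rep 3)).symm
  have hc' : Commute c I.tW := hc
  exact ((hc'.mul_left hz).mul_left hc'.inv_left).eq

theorem InR.sq {y : G} (h : I.InR y) : y * y = 1 := by
  obtain ⟨c, rfl, -⟩ := h
  rw [show c * z * c⁻¹ * (c * z * c⁻¹) = c * (z * z) * c⁻¹ by group, ← I.ι_zc, I.ι_sq zc_inv]; group

variable (I)

theorem inR_z : I.InR z := ⟨1, by group, by rw [one_mul, mul_one]⟩

theorem inR_of_comm {q : G} (hq : q * I.tW = I.tW * q) : I.InR (q * z * q⁻¹) := I.inR_z.conj hq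

variable {six : Bool}

/-- The product of a representative of the classes not conjugate to the centre with the centre. -/
theorem zType_zc_rep (hP : I.Pat six) {i : ℕ} (hi : i < 8) (h0 : i ≠ 0) :
    I.ZType (zc * rep i) ↔ inDc six (swap45 i) = true := by
  have h := tag_zmul (isInv_rep hi) (by rw [tag_rep hi]; exact h0)
  rw [hP, tagS_inv h.1, h.2, tag_rep hi]

theorem zType_rep (hP : I.Pat six) {i : ℕ} (hi : i < 8) : I.ZType (rep i) ↔ inDc six i = true := by
  rw [hP, tagS_inv (isInv_rep hi), tag_rep hi]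

/-- An involution conjugate to `z` in the centralizer: moved to `z`, the second class to a representative. -/
theorem exists_rel (hP : I.Pat six) {y : G} (hy : IsConj z y) (hc : y * I.tW = I.tW * y) :
    ∃ i c, i < 8 ∧ inDc six i = false ∧ c * y * c⁻¹ = z ∧ c * I.tW * c⁻¹ = I.ι (rep i) ∧
      (IsConj z (y * I.tW) ↔ inDc six (swap45 i) = true) := by
  obtain ⟨a, ha⟩ := isConj_iff.1 hy
  obtain ⟨g, hg⟩ := I.exists_ι (x := a⁻¹ * I.tW * a) (by
    calc a⁻¹ * I.tW * a * z = a⁻¹ * (I.tW * (a * z * a⁻¹)) * a := by group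
      _ = a⁻¹ * ((a * z * a⁻¹) * I.tW) * a := by rw [ha, hc]
      _ = _ := by group)
  have h3 := isInv_rep (show 3 < 8 by norm_num)
  have hgi : IsInv g := I.isInv_of
    (by rw [hg, show a⁻¹ * I.tW * a * (a⁻¹ * I.tW * a) = a⁻¹ * (I.tW * I.tW) * a by group, tW, I.ι_sq h3]
        group)
    (by rw [hg]; intro e; exact I.ι_ne h3 (by
      calc I.ι (rep 3) = a * (a⁻¹ * I.tW * a) * a⁻¹ := by rw [tW]; group
        _ = 1 := by rw [e]; group))
  obtain ⟨k, hk⟩ := exists_conj_of_tag_eq hgi (isInv_rep (tag_lt hgi)) (tag_rep (tag_lt hgi)).symm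
  set c := I.ι k * a⁻¹ with hcd
  have hcy : c * y * c⁻¹ = z := by
    rw [hcd, show I.ι k * a⁻¹ * y * (I.ι k * a⁻¹)⁻¹ = I.ι k * (a⁻¹ * y * a) * (I.ι k)⁻¹ by group,
      show a⁻¹ * y * a = z by rw [← ha]; group, I.ι_comm k, mul_inv_cancel_right]
  have hct : c * I.tW * c⁻¹ = I.ι (rep (tag g)) := by
    rw [hcd, show I.ι k * a⁻¹ * I.tW * (I.ι k * a⁻¹)⁻¹ = I.ι k * (a⁻¹ * I.tW * a) * (I.ι k)⁻¹ by group,
      ← hg, ← map_inv, ← map_mul, ← map_mul, hk]
  have hnd : inDc six (tag g) = false := by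
    refine Bool.eq_false_iff.2 fun e => ?_
    have hz : IsConj z (c * I.tW * c⁻¹) := by
      rw [hct]; exact (I.zType_rep hP (tag_lt hgi)).2 e
    exact I.not_zType_three (hz.trans (isConj_iff.2 ⟨c⁻¹, by rw [inv_inv]; group⟩))
  refine ⟨tag g, c, tag_lt hgi, hnd, hcy, hct, ?_⟩
  have h0 : tag g ≠ 0 := fun e => by
    rw [e] at hnd
    simp [inDc, memL] at hnd
  rw [← I.zType_zc_rep hP (tag_lt hgi) h0]
  have e : c * (y * I.tW) * c⁻¹ = I.ι (zc * rep (tag g)) := by
    rw [map_mul, ι_zc, ← hct]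
    conv_rhs => arg 1; rw [← hcy]
    group
  exact ⟨fun h => h.trans (isConj_iff.2 ⟨c, e⟩), fun h => h.trans (isConj_iff.2 ⟨c⁻¹, by rw [← e]; group⟩)⟩

/-- The order of the common centralizer in terms of the representative. -/
theorem card_CC [Finite G] {y c : G} {i : ℕ} (hi : i < 8) (hcy : c * y * c⁻¹ = z)
    (hct : c * I.tW * c⁻¹ = I.ι (rep i)) :
    Nat.card (I.CC y) = [21504, 1536, 1536, 512, 256, 256, 128, 128].getD i 0 := by
  have h := card_cent_eq (isInv_rep hi)
  rw [tag_rep hi] at h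
  rw [← h, ← Subgroup.card_map_of_injective (f := (MulAut.conj c).toMonoidHom) (MulAut.conj c).injective,
    ← Subgroup.card_map_of_injective (K := centralizer ({rep i} : Set Mdl)) I.ι_inj]
  congr 2
  ext w
  simp only [Subgroup.mem_map, mem_CC, mem_centralizer_singleton_iff]
  constructor
  · rintro ⟨q, ⟨h1, h2⟩, rfl⟩
    show ∃ x, x * rep i = rep i * x ∧ I.ι x = c * q * c⁻¹
    obtain ⟨x, hx⟩ := I.exists_ι (x := c * q * c⁻¹) (by
      rw [← hcy, show c * q * c⁻¹ * (c * y * c⁻¹) = c * (q * y) * c⁻¹ by group, h1]; group)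
    refine ⟨x, I.ι_comm_iff.1 ?_, hx⟩
    rw [hx, ← hct, show c * q * c⁻¹ * (c * I.tW * c⁻¹) = c * (q * I.tW) * c⁻¹ by group, h2]; group
  · rintro ⟨x, hx, rfl⟩
    refine ⟨c⁻¹ * I.ι x * c, ⟨?_, ?_⟩, by show c * (c⁻¹ * I.ι x * c) * c⁻¹ = _; group⟩
    · rw [show y = c⁻¹ * z * c by rw [← hcy]; group,
        show c⁻¹ * I.ι x * c * (c⁻¹ * z * c) = c⁻¹ * (I.ι x * z) * c by group, I.ι_comm x]; group
    · rw [show I.tW = c⁻¹ * I.ι (rep i) * c by rw [← hct]; group,
        show c⁻¹ * I.ι x * c * (c⁻¹ * I.ι (rep i) * c) = c⁻¹ * (I.ι x * I.ι (rep i)) * c by group,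
        I.ι_comm_iff.2 hx]; group

/-- The part inside `C(z)`. -/
theorem map_sub3_le (g : Mdl) : (sub3 g).map I.ι ≤ I.CC (I.ι g) := by
  rintro _ ⟨q, hq, rfl⟩
  have h := mem_inf.1 hq
  exact I.mem_CC.2 ⟨I.ι_comm_iff.2 (mem_centralizer_singleton_iff.1 h.2),
    I.ι_comm_iff.2 (mem_centralizer_singleton_iff.1 h.1)⟩

/-- A small common centralizer lies in `C(z)`. -/
theorem CC_le_of_card [Finite G] {g : Mdl} (hg : IsInv g) (hc : g * rep 3 = rep 3 * g) {n : ℕ}
    (hn : classBound (code g) ≤ n) (h : n * Nat.card (I.CC (I.ι g)) ≤ 512) {q : G} (hq : q ∈ I.CC (I.ι g)) :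
    q * z = z * q := by
  have h1 := le_classBound hg hc
  have h2 : 512 ≤ n * Nat.card ((sub3 g).map I.ι) := by
    rw [Subgroup.card_map_of_injective I.ι_inj]; exact h1.trans (Nat.mul_le_mul_right _ hn)
  have hn0 : 0 < n := by
    rcases Nat.eq_zero_or_pos n with e | e
    · rw [e] at h2; simp at h2
    · exact e
  have heq := Subgroup.eq_of_le_of_card_ge (I.map_sub3_le g) (Nat.le_of_mul_le_mul_left (h.trans h2) hn0)
  rw [← heq] at hq
  obtain ⟨x, -, rfl⟩ := hq
  exact I.ι_comm x

end Iso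

end Cfsg.Agent.HeLocal
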