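import Cfsg.Agent.Lib.HeLocal.CentT.Base
import Cfsg.Agent.Lib.HeLocal.Pattern.Degenerate

/-!
# The centralizer of the second class

Its conjugates of `z` are the listed involutions of `C(z)`: the product of any of them with two suitable
involutions, whose centralizers in `C(t)` lie in `C(z)`, gives an involution commuting with it of the same kind.
-/

set_option autoImplicit false

namespace Cfsg.Agent.HeLocal

open Subgroup Code CentT

attribute [local irreducible] rep el code

/-- An even product of involutions commuting with `t`: the central involution and a conjugation commuting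
with `t`. -/
theorem CentT.evenT {G : Type*} [Group G] [Finite G] {x y t : G} (hx : x * x = 1) (hy : y * y = 1)
    (hxt : x * t = t * x) (hyt : y * t = t * y) {k : ℕ} (hk : orderOf (x * y) = 2 * k) :
    ∃ w g : G, w ≠ 1 ∧ w * x = x * w ∧ w * y = y * w ∧ w * t = t * w ∧ g * t = t * g ∧
      (g * y * g⁻¹ = x * w ∨ g * y * g⁻¹ = y * w) := by
  set d := x * y with hd
  have hdt : Commute d t := (show Commute x t from hxt).mul_left (show Commute y t from hyt)
  have hpos : 0 < orderOf d := orderOf_pos d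
  set w := d ^ k with hw
  have hww : w * w = 1 := by rw [hw, ← pow_add, ← two_mul, ← hk, pow_orderOf_eq_one]
  have hwi : w⁻¹ = w := inv_eq_of_mul_eq_one_right hww
  have key : ∀ u : G, u * u = 1 → u * d * u = d⁻¹ → w * u = u * w := by
    intro u hu hud
    have e := Pair.inv_conj hu hud k
    rw [two_mul, pow_add, ← hw, hww, mul_one, hwi] at e
    calc w * u = w * u * w * w⁻¹ := by group
      _ = _ := by rw [e, hwi]
  have hne : w ≠ 1 := fun e => pow_ne_one_of_lt_orderOf (by omega) (by omega) (hw ▸ e : d ^ k = 1)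
  have hwx := key x hx (Pair.inv_left hx hy)
  have hwy := key y hy (Pair.inv_right hx hy)
  have hwt : w * t = t * w := (hdt.pow_left k).eq
  obtain ⟨j, hj | hj⟩ := Nat.even_or_odd' k
  · exact ⟨w, (d ^ j)⁻¹, hne, hwx, hwy, hwt, (hdt.pow_left j).inv_left.eq,
      Or.inr (by rw [inv_inv, Pair.inv_conj hy (Pair.inv_right hx hy) j, hw, hj])⟩
  · refine ⟨w, (d ^ j)⁻¹, hne, hwx, hwy, hwt, (hdt.pow_left j).inv_left.eq, Or.inl ?_⟩
    rw [inv_inv, Pair.inv_conj hy (Pair.inv_right hx hy) j, hw, hj, pow_succ' d (2 * j), hd]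
    simp only [← mul_assoc]
    rw [hx, one_mul]

namespace Iso

variable {G : Type*} [Group G] {z : G} (I : Iso z) {six : Bool}

/-- The listed conjugates of `z`. -/
def rsG (six : Bool) : Set G := I.ι '' {g : Mdl | code g ∈ rs six}

/-- Every conjugate of `z` under the centralizer of the second class commuting with `w` commutes with `z`. -/
def Good (w : G) : Prop := ∀ y : G, I.InR y → y * w = w * y → y * z = z * y

theorem isX_spec (hP : I.Pat six) {i : ℕ} (hi : i < 8) {x : Mdl} :
    isX six i (code x) = true ↔ x * rep i = rep i * x ∧ I.ZType x ∧ I.ZType (x * rep i) := by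
  rw [isX, inCD, Bool.and_eq_true, Bool.and_eq_true, cm_rep hi, hP x, hP (x * rep i), code_mul_rep x hi,
    and_assoc]

theorem isInv_of_isX (hP : I.Pat six) {i : ℕ} (hi : i < 8) {x : Mdl} (h : isX six i (code x) = true) :
    IsInv x := I.isInv_of_zType ((I.isX_spec hP hi).1 h).2.1

theorem rs_spec (hP : I.Pat six) {g : Mdl} (h : code g ∈ rs six) :
    IsInv g ∧ g * rep 3 = rep 3 * g ∧ I.ZType g ∧ ¬ I.ZType (g * rep 3) := by
  have h1 := List.all_eq_true.1 (rs_ok six) _ h
  simp only [rsOK, inCD, Bool.and_eq_true, Bool.not_eq_true'] at h1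
  obtain ⟨⟨⟨⟨⟨⟨⟨-, h2⟩, h3, h4⟩, h5⟩, -⟩, -⟩, -⟩, -⟩ := h1
  refine ⟨isInv_iff.2 h2, (cm_rep (by norm_num)).1 h3, (hP g).2 h4, fun e => ?_⟩
  rw [hP, code_mul_rep g (by norm_num), h5] at e
  exact Bool.false_ne_true e

theorem zc_mem_rs : code zc ∈ rs six := by
  rw [zc, code_rep (by norm_num)]; exact memL_iff.1 (rs_list six).2.2

theorem ks_spec (hP : I.Pat six) {g : Mdl} (h : code g ∈ ks six) :
    IsInv g ∧ g * rep 3 = rep 3 * g ∧ I.ZType g ∧ ¬ I.ZType (g * rep 3) ∧ code g ∉ rs six ∧
      classBound (code g) ≤ 4 := by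
  have h1 := List.all_eq_true.1 (ks_ok six).1 _ h
  simp only [ksOK, inCD, Bool.and_eq_true, Bool.not_eq_true', Nat.ble_eq] at h1
  obtain ⟨⟨⟨⟨⟨-, h2⟩, h3, h4⟩, h5⟩, h6⟩, h7⟩ := h1
  refine ⟨isInv_iff.2 h2, (cm_rep (by norm_num)).1 h3, (hP g).2 h4, fun e => ?_,
    fun e => ?_, h7⟩
  · rw [hP, code_mul_rep g (by norm_num), h5] at e
    exact Bool.false_ne_true e
  · rw [memL_iff.2 e] at h6
    exact Bool.noConfusion h6

theorem f2_spec (hP : I.Pat six) {g : Mdl} (h : code g ∈ f2) :
    IsInv g ∧ g * rep 3 = rep 3 * g ∧ I.ZType g ∧ I.ZType (g * rep 3) ∧ classBound (code g) ≤ 2 := by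
  have h1 := List.all_eq_true.1 (f2_ok six) _ h
  simp only [f2OK, Bool.and_eq_true, Nat.ble_eq] at h1
  obtain ⟨⟨⟨-, h2⟩, h3⟩, h4⟩ := h1
  obtain ⟨a, b, c⟩ := (I.isX_spec hP (show 3 < 8 by norm_num)).1 h3
  exact ⟨isInv_iff.2 h2, a, b, c, h4⟩

variable [Finite G]

theorem CC_f2 (hP : I.Pat six) {g : Mdl} (h : code g ∈ f2) {q : G} (hq : q ∈ I.CC (I.ι g)) : q * z = z * q := by
  obtain ⟨hg, hc, hz, hzt, hn⟩ := I.f2_spec hP h
  obtain ⟨i, c, hi, hnd, hcy, hct, hiff⟩ := I.exists_rel hP hz (I.ι_comm_iff.2 hc)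
  have e := hiff.1 (by rw [tW, ← map_mul]; exact hzt)
  refine I.CC_le_of_card hg hc hn (le_of_eq ?_) hq
  rw [I.card_CC hi hcy hct, (class_order six i hi hnd).2 e]

/-- Being moved to the fourth representative gives a conjugate under the centralizer. -/
theorem inR_of_three {y c : G} (hcy : c * y * c⁻¹ = z) (hct : c * I.tW * c⁻¹ = I.ι (rep 3)) : I.InR y := by
  refine ⟨c⁻¹, by rw [← hcy]; group, ?_⟩
  rw [mul_inv_eq_iff_eq_mul] at hct
  show c⁻¹ * I.ι (rep 3) = I.ι (rep 3) * c⁻¹
  rw [eq_mul_inv_iff_mul_eq, mul_assoc, ← hct, ← mul_assoc, inv_mul_cancel, one_mul]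

/-- A listed conjugate is one. -/
theorem rs_inR (hP : I.Pat six) {g : Mdl} (h : code g ∈ rs six) : I.InR (I.ι g) := by
  obtain ⟨hg, hc, hz, hzt⟩ := I.rs_spec hP h
  have h1 := List.all_eq_true.1 (rs_ok six) _ h
  simp only [rsOK, Bool.and_eq_true, Bool.or_eq_true, Nat.ble_eq, List.all_eq_true, Bool.not_eq_true',
    Bool.not_eq_eq_eq_not, Bool.not_true] at h1
  obtain ⟨⟨⟨-, hb⟩, hX⟩, -⟩ := h1
  obtain ⟨i, c, hi, hnd, hcy, hct, hiff⟩ := I.exists_rel hP hz (I.ι_comm_iff.2 hc)
  have h5 : inDc six (swap45 i) = false :=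
    Bool.eq_false_iff.2 fun e => hzt (by rw [ZType, map_mul]; exact hiff.2 e)
  by_contra hR
  have hcard : Nat.card (I.CC (I.ι g)) = 128 := by
    rw [I.card_CC hi hcy hct]
    exact ((class_order six i hi hnd).1 h5).resolve_left fun e => hR (I.inR_of_three hcy (e ▸ hct))
  rcases hb with hb | ⟨hsix, -⟩
  · have h2 := le_classBound hg hc
    have h3 : Nat.card (sub3 g) ≤ 128 := by
      rw [← hcard, ← Subgroup.card_map_of_injective (K := sub3 g) I.ι_inj]
      exact Nat.le_of_dvd Nat.card_pos (Subgroup.card_dvd_of_le (I.map_sub3_le g))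
    have := h2.trans (Nat.mul_le_mul hb h3)
    omega
  · subst hsix
    rcases hX with hX | hX
    · exact Bool.noConfusion hX
    have hi7 : i = 7 := by
      interval_cases i
      all_goals first
        | rfl
        | exact absurd (I.inR_of_three hcy hct) hR
        | simp_all [inDc, memL, swap45]
    subst hi7
    have key : ∀ x : {x : Mdl // isX true 3 (code x) = true}, ∃ u : {u : Mdl // isX true 7 (code u) = true},
        I.ι u.1 = c * I.ι x.1 * c⁻¹ := by
      rintro ⟨x, hx⟩
      obtain ⟨hx1, hx2, hx3⟩ := (I.isX_spec hP (show 3 < 8 by norm_num)).1 hx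
      have hxg : x * g = g * x := by
        refine (cm_code.1 ?_).symm
        rcases hX _ (code_mem_invCodes (I.isInv_of_zType hx2)) with e | e
        · rw [hx] at e; exact Bool.noConfusion e
        · exact e
      obtain ⟨u, hu⟩ := I.exists_ι (x := c * I.ι x * c⁻¹) (by
        calc c * I.ι x * c⁻¹ * z = c * I.ι x * c⁻¹ * (c * I.ι g * c⁻¹) := by rw [hcy]
          _ = c * (I.ι x * I.ι g) * c⁻¹ := by group
          _ = c * (I.ι g * I.ι x) * c⁻¹ := by rw [I.ι_comm_iff.2 hxg]
          _ = c * I.ι g * c⁻¹ * (c * I.ι x * c⁻¹) := by group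
          _ = _ := by rw [hcy])
      refine ⟨⟨u, (I.isX_spec hP (show 7 < 8 by norm_num)).2 ⟨?_, ?_, ?_⟩⟩, hu⟩
      · refine I.ι_comm_iff.1 ?_
        rw [hu, ← hct, show c * I.ι x * c⁻¹ * (c * I.tW * c⁻¹) = c * (I.ι x * I.ι (rep 3)) * c⁻¹ by
          rw [tW]; group, I.ι_comm_iff.2 hx1, tW]
        group
      · exact hx2.trans (isConj_iff.2 ⟨c, hu.symm⟩)
      · exact hx3.trans (isConj_iff.2 ⟨c, by rw [map_mul, map_mul, hu, ← hct, tW]; group⟩)
    choose f hf using key
    have hle := Nat.card_le_card_of_injective f fun a b e => Subtype.ext (I.ι_inj (by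
      have e' := congrArg (fun u : {u : Mdl // isX true 7 (code u) = true} => I.ι u.1) e
      simp only [hf] at e'
      exact mul_left_cancel (mul_right_cancel e')))
    rw [card_codes _ (fun _ h => I.isInv_of_isX hP (by norm_num) h),
      card_codes _ (fun _ h => I.isInv_of_isX hP (by norm_num) h), x_counts.1, x_counts.2.1] at hle
    omega

/-- A conjugate of `z` under the centralizer commuting with `z` is listed. -/
theorem mem_rsG (hP : I.Pat six) {y : G} (hy : I.InR y) (hyz : y * z = z * y) : y ∈ I.rsG six := by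
  obtain ⟨g, rfl⟩ := I.exists_ι hyz
  refine ⟨g, ?_, rfl⟩
  show code g ∈ rs six
  by_contra hg
  have hgz : I.ZType g := hy.isConj
  have hgi := I.isInv_of_zType hgz
  have hc : g * rep 3 = rep 3 * g := I.ι_comm_iff.1 hy.comm
  obtain ⟨c, hcy, hct⟩ := hy
  have hct' : Commute c I.tW := hct
  have htt : c⁻¹ * I.tW * c = I.tW := by
    rw [mul_assoc, ← hct, ← mul_assoc, inv_mul_cancel, one_mul]
  have hzt : ¬ I.ZType (g * rep 3) := by
    intro h
    refine I.not_zType_three ((I.zType_iff_of_tag (tag_zmul (isInv_rep (show 3 < 8 by norm_num))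
      (by rw [tag_rep (by norm_num)]; norm_num)).1 (isInv_rep (show 3 < 8 by norm_num)) ?_).1 ?_)
    · rw [(tag_zmul (isInv_rep (show 3 < 8 by norm_num)) (by rw [tag_rep (by norm_num)]; norm_num)).2,
        tag_rep (by norm_num)]
      rfl
    · refine h.trans (isConj_iff.2 ⟨c⁻¹, ?_⟩)
      rw [map_mul, map_mul, ι_zc, ← hcy, inv_inv,
        show c⁻¹ * (c * z * c⁻¹ * I.ι (rep 3)) * c = z * (c⁻¹ * I.ι (rep 3) * c) by group]
      exact congrArg (z * ·) htt
  have hother : otherOK six (code g) = true := by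
    have h := forall_inv (others_ok six) hgi
    have e1 : inCD six 3 (code g) = true := by
      rw [inCD, (cm_rep (by norm_num)).2 hc, (hP g).1 hgz]; rfl
    have e2 : inDc six (tagS (mulF (code g) (repc 3))) = false := by
      refine Bool.eq_false_iff.2 fun e => hzt ((hP _).2 ?_)
      rwa [code_mul_rep g (by norm_num)]
    have e3 : memL (code g) (rs six) = false := Bool.eq_false_iff.2 fun e => hg (memL_iff.1 e)
    rw [e1, e2, e3] at h
    simpa using h
  simp only [otherOK, Bool.and_eq_true, List.any_eq_true, Bool.not_eq_true'] at hother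
  obtain ⟨hall, a, ha, hga, b, hb, ⟨hb3, hba⟩, hbg⟩ := hother
  have hK := List.all_eq_true.1 (f2_ok six) a ha
  simp only [f2OK, Bool.and_eq_true] at hK
  have hax : code (el a) = a := code_el hK.1.1.1
  have hbx : code (el b) = b := code_el (inK_invCodes hb).1
  obtain ⟨-, hx1, hx2, hx3, -⟩ := I.f2_spec hP (g := el a) (by rw [hax]; exact ha)
  have hxg : el a * g = g * el a := (cm_code.1 (by rw [hax]; exact hga)).symm
  have hb3' : el b * rep 3 = rep 3 * el b := (cm_rep (by norm_num)).1 (by rw [hbx]; exact hb3)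
  -- pull back
  have pull : ∀ q : Mdl, q * g = g * q → q * rep 3 = rep 3 * q → ∃ u : Mdl,
      I.ι u = c⁻¹ * I.ι q * c ∧ u * rep 3 = rep 3 * u ∧ (I.ZType q → I.ZType u) ∧
        (I.ZType (q * rep 3) → I.ZType (u * rep 3)) := by
    intro q hq hq3
    obtain ⟨u, hu⟩ := I.exists_ι (x := c⁻¹ * I.ι q * c) (by
      calc c⁻¹ * I.ι q * c * z = c⁻¹ * (I.ι q * (c * z * c⁻¹)) * c := by group
        _ = c⁻¹ * ((c * z * c⁻¹) * I.ι q) * c := by rw [hcy, I.ι_comm_iff.2 hq]
        _ = _ := by group)
    refine ⟨u, hu, I.ι_comm_iff.1 ?_, fun h => h.trans (isConj_iff.2 ⟨c⁻¹, by rw [hu]; group⟩),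
      fun h => h.trans (isConj_iff.2 ⟨c⁻¹, ?_⟩)⟩
    · rw [hu]
      calc c⁻¹ * I.ι q * c * I.ι (rep 3) = c⁻¹ * I.ι q * (c * I.tW) := by rw [tW]; group
        _ = c⁻¹ * (I.ι q * I.ι (rep 3)) * c := by rw [hct, tW]; group
        _ = c⁻¹ * I.tW * (I.ι q * c) := by rw [I.ι_comm_iff.2 hq3, tW]; group
        _ = c⁻¹ * I.tW * c * (c⁻¹ * I.ι q * c) := by group
        _ = _ := by rw [htt]
    · rw [inv_inv, map_mul, map_mul, hu]
      calc c⁻¹ * (I.ι q * I.ι (rep 3)) * c = c⁻¹ * I.ι q * c * (c⁻¹ * I.tW * c) := by rw [tW]; group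
        _ = _ := by rw [htt]
  obtain ⟨u, hu, hu3, huz, huzt⟩ := pull (el a) hxg hx1
  have huX : isX six 3 (code u) = true :=
    (I.isX_spec hP (by norm_num)).2 ⟨hu3, huz hx2, huzt hx3⟩
  have hcontra : code u ∈ f2 → False := by
    intro huf
    have hmem : c⁻¹ * I.ι (el b) * c ∈ I.CC (I.ι u) := by
      refine I.mem_CC.2 ⟨?_, ?_⟩
      · rw [hu, show c⁻¹ * I.ι (el b) * c * (c⁻¹ * I.ι (el a) * c) = c⁻¹ * (I.ι (el b) * I.ι (el a)) * c by
          group, I.ι_comm_iff.2 (cm_code.1 (show cm (code (el b)) (code (el a)) = true by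
            rw [hbx, hax]; exact hba))]
        group
      · calc c⁻¹ * I.ι (el b) * c * I.tW = c⁻¹ * I.ι (el b) * (c * I.tW) := by group
          _ = c⁻¹ * (I.ι (el b) * I.ι (rep 3)) * c := by rw [hct, tW]; group
          _ = c⁻¹ * I.tW * (I.ι (el b) * c) := by rw [I.ι_comm_iff.2 hb3', tW]; group
          _ = c⁻¹ * I.tW * c * (c⁻¹ * I.ι (el b) * c) := by group
          _ = _ := by rw [htt]
    have h := I.CC_f2 hP huf hmem
    have e : el b * g = g * el b := by
      refine I.ι_comm_iff.1 ?_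
      rw [← hcy]
      calc I.ι (el b) * (c * z * c⁻¹) = c * (c⁻¹ * I.ι (el b) * c * z) * c⁻¹ := by group
        _ = c * (z * (c⁻¹ * I.ι (el b) * c)) * c⁻¹ := by rw [h]
        _ = _ := by group
    have e' := cm_code.2 e
    rw [hbx, hbg] at e'
    exact Bool.false_ne_true e'
  cases six with
  | false =>
    refine hcontra (memL_iff.1 ?_)
    have h := List.all_eq_true.1 x_counts.2.2.2.2 _ (code_mem_invCodes (I.isInv_of_isX hP (by norm_num) huX))
    rw [huX] at h
    simpa using h
  | true =>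
    obtain ⟨g'', hg'', hg''3, hg''z, -⟩ := pull zc (zc_comm g).symm (zc_comm (rep 3)).symm
    have hg''t : ¬ I.ZType (g'' * rep 3) := by
      intro h
      have e : IsConj z (I.ι (zc * rep 3)) := h.trans (isConj_iff.2 ⟨c, by
        rw [map_mul, map_mul, hg'', ι_zc]
        calc c * (c⁻¹ * z * c * I.ι (rep 3)) * c⁻¹ = z * (c * I.tW) * c⁻¹ := by rw [tW]; group
          _ = _ := by rw [hct]; group⟩)
      rw [← ZType, I.zType_zc_rep hP (by norm_num) (by norm_num)] at e
      simp [swap45, inDc, memL] at e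
    have hug : u * g'' = g'' * u := by
      refine I.ι_comm_iff.1 ?_
      rw [hu, hg'', ι_zc, show c⁻¹ * I.ι (el a) * c * (c⁻¹ * z * c) = c⁻¹ * (I.ι (el a) * z) * c by group,
        I.ι_comm]
      group
    by_cases hr : code g'' ∈ rs true
    swap
    · have h := forall_inv (others_ok true) (I.isInv_of_zType (hg''z I.zType_zc))
      have e1 : inCD true 3 (code g'') = true := by
        rw [inCD, (cm_rep (by norm_num)).2 hg''3, (hP g'').1 (hg''z I.zType_zc)]; rfl
      have e2 : inDc true (tagS (mulF (code g'') (repc 3))) = false := by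
        refine Bool.eq_false_iff.2 fun e => hg''t ((hP _).2 ?_)
        rwa [code_mul_rep g'' (by norm_num)]
      have e3 : memL (code g'') (rs true) = false := Bool.eq_false_iff.2 fun e => hr (memL_iff.1 e)
      rw [e1, e2, e3] at h
      simp only [Bool.not_true, Bool.false_or, otherOK, Bool.and_eq_true, List.all_eq_true] at h
      have h' := h.1 _ (code_mem_invCodes (I.isInv_of_isX hP (by norm_num) huX))
      rw [huX, cm_code.2 hug.symm] at h'
      exact hcontra (memL_iff.1 (by simpa using h'))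
    · -- all the pairs would commute with `g`
      have h1 := List.all_eq_true.1 (rs_ok true) _ hr
      simp only [rsOK, Bool.and_eq_true, Bool.or_eq_true, List.all_eq_true, Bool.not_eq_true',
        Bool.not_eq_eq_eq_not, Bool.not_true] at h1
      obtain ⟨⟨-, hX⟩, -⟩ := h1
      rcases hX with hX | hX
      · exact Bool.noConfusion hX
      have key : ∀ q : {q : Mdl // isX true 3 (code q) = true}, ∃ v : {v : Mdl // code v ∈ f2},
          I.ι v.1 = c * I.ι q.1 * c⁻¹ := by
        rintro ⟨q, hq⟩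
        obtain ⟨q1, q2, q3⟩ := (I.isX_spec hP (show 3 < 8 by norm_num)).1 hq
        have hqg : g'' * q = q * g'' := by
          refine cm_code.1 ?_
          rcases hX _ (code_mem_invCodes (I.isInv_of_zType q2)) with e | e
          · rw [hq] at e; exact Bool.noConfusion e
          · exact e
        obtain ⟨v, hv⟩ := I.exists_ι (x := c * I.ι q * c⁻¹) (by
          have e := I.ι_comm_iff.2 hqg
          rw [hg'', ι_zc] at e
          calc c * I.ι q * c⁻¹ * z = c * (I.ι q * (c⁻¹ * z * c)) * c⁻¹ := by group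
            _ = c * (c⁻¹ * z * c * I.ι q) * c⁻¹ := by rw [e]
            _ = _ := by group)
        have hvg : g * v = v * g := by
          refine I.ι_comm_iff.1 ?_
          rw [hv, ← hcy]
          calc c * z * c⁻¹ * (c * I.ι q * c⁻¹) = c * (z * I.ι q) * c⁻¹ := by group
            _ = _ := by rw [← I.ι_comm]; group
        have hvX : isX true 3 (code v) = true := by
          refine (I.isX_spec hP (by norm_num)).2 ⟨I.ι_comm_iff.1 ?_, q2.trans (isConj_iff.2 ⟨c, hv.symm⟩),
            q3.trans (isConj_iff.2 ⟨c, ?_⟩)⟩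
          · rw [hv]
            calc c * I.ι q * c⁻¹ * I.ι (rep 3) = c * I.ι q * (c⁻¹ * I.tW * c) * c⁻¹ := by rw [tW]; group
              _ = c * (I.ι q * I.ι (rep 3)) * c⁻¹ := by rw [htt, tW]; group
              _ = c * I.tW * (I.ι q * c⁻¹) := by rw [I.ι_comm_iff.2 q1, tW]; group
              _ = _ := by rw [hct, tW]; group
          · rw [map_mul, map_mul, hv]
            calc c * (I.ι q * I.ι (rep 3)) * c⁻¹ = c * I.ι q * c⁻¹ * (c * I.tW) * c⁻¹ := by rw [tW]; group
              _ = _ := by rw [hct, tW]; group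
        refine ⟨⟨v, ?_⟩, hv⟩
        have h' := hall
        simp only [List.all_eq_true] at h'
        have h'' := h' _ (code_mem_invCodes (I.isInv_of_isX hP (by norm_num) hvX))
        rw [hvX, cm_code.2 hvg] at h''
        exact memL_iff.1 (by simpa using h'')
      choose f hf using key
      have hle := Nat.card_le_card_of_injective f fun a b e => Subtype.ext (I.ι_inj (by
        have e' := congrArg (fun v : {v : Mdl // code v ∈ f2} => I.ι v.1) e
        simp only [hf] at e'
        exact mul_left_cancel (mul_right_cancel e')))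
      rw [card_codes _ (fun _ h => I.isInv_of_isX hP (by norm_num) h), x_counts.1,
        card_eq_list x_counts.2.2.2.1 (fun a ha => by
          have := List.all_eq_true.1 (f2_ok true) a ha
          simp only [f2OK, Bool.and_eq_true] at this
          exact this.1.1.1) (fun _ => Iff.rfl), x_counts.2.2.1] at hle
      omega

/-- A product with the second class is settled with it. -/
theorem Good.mul_tW {w : G} (h : I.Good (I.tW * w)) : I.Good w := by
  intro y hy hw
  refine h y hy ?_
  rw [← mul_assoc, hy.comm, mul_assoc, hw, mul_assoc]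

theorem Good.of_tW {w : G} (h : I.Good w) : I.Good (I.tW * w) := by
  intro y hy hw
  refine h y hy (mul_left_cancel (a := I.tW) ?_)
  rw [← mul_assoc, ← hy.comm, mul_assoc, hw, mul_assoc]

theorem good_f2 (hP : I.Pat six) {g : Mdl} (h : code g ∈ f2) : I.Good (I.ι g) :=
  fun _ hy hc => I.CC_f2 hP h (I.mem_CC.2 ⟨hc, hy.comm⟩)

/-- The involutions of `ks` are not conjugate to `z` under the centralizer. -/
theorem ks_not_inR (hP : I.Pat six) {g : Mdl} (h : code g ∈ ks six) : ¬ I.InR (I.ι g) := by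
  intro hR
  obtain ⟨q, hq, hqe⟩ := I.mem_rsG hP hR (I.ι_comm g)
  exact (I.ks_spec hP h).2.2.2.2.1 (I.ι_inj hqe ▸ hq)

theorem CC_ks (hP : I.Pat six) {g : Mdl} (h : code g ∈ ks six) {q : G} (hq : q ∈ I.CC (I.ι g)) :
    q * z = z * q := by
  obtain ⟨hg, hg3, hz, hzt, -, hn⟩ := I.ks_spec hP h
  obtain ⟨i, c, hi, hnd, hcy, hct, hiff⟩ := I.exists_rel hP hz (I.ι_comm_iff.2 hg3)
  have h5 : inDc six (swap45 i) = false :=
    Bool.eq_false_iff.2 fun e => hzt (by rw [ZType, map_mul]; exact hiff.2 e)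
  refine I.CC_le_of_card hg hg3 hn (le_of_eq ?_) hq
  rw [I.card_CC hi hcy hct,
    ((class_order six i hi hnd).1 h5).resolve_left fun e =>
      I.ks_not_inR hP h (I.inR_of_three hcy (e ▸ hct))]

theorem good_ks (hP : I.Pat six) {g : Mdl} (h : code g ∈ ks six) : I.Good (I.ι g) :=
  fun _ hy hc => I.CC_ks hP h (I.mem_CC.2 ⟨hc, hy.comm⟩)

/-- The listed conjugates are those commuting with any one of them. -/
theorem mem_rsG_of_comm (hP : I.Pat six) {r y : G} (hr : r ∈ I.rsG six) (hy : I.InR y) (hc : y * r = r * y) :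
    y ∈ I.rsG six := by
  obtain ⟨g, hg, rfl⟩ := hr
  obtain ⟨c, hcy, hct⟩ := I.rs_inR hP hg
  have himg : ∀ v : G, I.InR v → v * I.ι g = I.ι g * v → v ∈ (fun u => c * u * c⁻¹) '' I.rsG six := by
    intro v hv hvc
    refine ⟨c⁻¹ * v * c, I.mem_rsG hP ?_ ?_, by group⟩
    · have := hv.conj (c := c⁻¹) ((show Commute c I.tW from hct).inv_left.eq)
      rwa [inv_inv] at this
    · rw [show z = c⁻¹ * I.ι g * c by rw [← hcy]; group,
        show c⁻¹ * v * c * (c⁻¹ * I.ι g * c) = c⁻¹ * (v * I.ι g) * c by group, hvc]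
      group
  have hsub : I.rsG six ⊆ (fun u => c * u * c⁻¹) '' I.rsG six := by
    rintro _ ⟨q, hq, rfl⟩
    refine himg _ (I.rs_inR hP hq) (I.ι_comm_iff.2 (cm_code.1 ?_))
    have h1 := List.all_eq_true.1 (rs_ok six) _ hq
    simp only [rsOK, Bool.and_eq_true] at h1
    exact List.all_eq_true.1 h1.1.1.1.2 _ hg
  have heq := Set.eq_of_subset_of_ncard_le hsub (le_of_eq (Set.ncard_image_of_injective _
    fun a b e => mul_left_cancel (mul_right_cancel e))) (Set.toFinite _)
  rw [heq]
  exact himg y hy hc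

theorem good_rs (hP : I.Pat six) {w : G} (h : w ∈ I.rsG six) : I.Good w := by
  intro y hy hc
  obtain ⟨q, -, rfl⟩ := I.mem_rsG_of_comm hP h hy hc
  exact I.ι_comm q

/-- The central involution of an even product with the conjugate kept. -/
theorem good_of_conj (hP : I.Pat six) {s : Mdl} (hs : code s ∈ ks six) {y w : G} (hy : I.InR y)
    (hw1 : w ≠ 1) (hwy : w * y = y * w) (hws : w * I.ι s = I.ι s * w) (hwt : w * I.tW = I.tW * w)
    (hyw : I.InR (y * w)) : I.Good w := by
  have hyy := hy.sq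
  obtain ⟨c, hcy, hct⟩ := hy
  have hct' : Commute c I.tW := hct
  obtain ⟨g, hg, hge⟩ := I.mem_rsG hP (y := c⁻¹ * (y * w) * c)
    (by have := hyw.conj (c := c⁻¹) hct'.inv_left.eq; rwa [inv_inv] at this) (by
      rw [show z = c⁻¹ * y * c by rw [← hcy]; group,
        show c⁻¹ * (y * w) * c * (c⁻¹ * y * c) = c⁻¹ * (y * (w * y)) * c by group, hwy]
      group)
  have hwe : w = c * I.ι (zc * g) * c⁻¹ := by
    rw [map_mul, ι_zc, hge]
    calc w = y * (y * w) := by rw [← mul_assoc, hyy, one_mul]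
      _ = c * z * c⁻¹ * (y * w) := by rw [hcy]
      _ = _ := by group
  have hmem : ∀ v : G, I.InR v → v * I.ι s = I.ι s * v → v ∈ I.rsG six := fun v hv hvc =>
    I.mem_rsG hP hv (I.good_ks hP hs v hv hvc)
  have h1 := List.all_eq_true.1 (rs_ok six) _ hg
  simp only [rsOK, Bool.and_eq_true, Bool.or_eq_true] at h1
  have hz0 : code zc = repc 0 := by rw [zc, code_rep (by norm_num)]
  rcases h1.2 with ((h | h) | h) | h
  · exfalso
    have e : g = zc := code_inj (by rw [hz0, Nat.eq_of_beq_eq_true h])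
    exact hw1 (by rw [hwe, e, zc_inv.1, map_one]; group)
  · rw [← hz0, ← code_mul, memL_iff] at h
    refine I.good_rs hP (hmem w ?_ hws)
    rw [hwe]; exact (I.rs_inR hP h).conj hct
  · rw [← hz0, ← code_rep (show 3 < 8 by norm_num), ← code_mul, ← code_mul, memL_iff] at h
    refine Good.mul_tW I (I.good_rs hP (hmem _ ?_ ?_))
    · rw [show I.tW * w = c * I.ι (rep 3 * (zc * g)) * c⁻¹ by
        rw [hwe, map_mul I.ι (rep 3)]
        calc I.tW * (c * I.ι (zc * g) * c⁻¹) = I.tW * c * (I.ι (zc * g) * c⁻¹) := by group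
          _ = _ := by rw [← hct, tW]; group]
      exact (I.rs_inR hP h).conj hct
    · have e := (show Commute (I.tW) (I.ι s) from (I.ι_comm_iff.2 (I.ks_spec hP hs).2.1).symm)
      exact (e.mul_left hws).eq
  · rw [← hz0, ← code_mul] at h
    obtain ⟨hq3, hqz, hqt⟩ := (I.isX_spec hP (show 3 < 8 by norm_num)).1 h
    have hwz' : IsConj z w := hqz.trans (isConj_iff.2 ⟨c, hwe.symm⟩)
    have hwzt : IsConj z (w * I.tW) := hqt.trans (isConj_iff.2 ⟨c, by
      rw [hwe, map_mul]
      calc c * (I.ι (zc * g) * I.ι (rep 3)) * c⁻¹ = c * I.ι (zc * g) * c⁻¹ * (c * I.tW) * c⁻¹ := by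
            rw [tW]; group
        _ = _ := by rw [hct, tW]; group⟩)
    obtain ⟨u, rfl⟩ := I.exists_ι (x := w) (I.CC_ks hP hs (I.mem_CC.2 ⟨hws, hwt⟩))
    have huX : isX six 3 (code u) = true := (I.isX_spec hP (by norm_num)).2
      ⟨I.ι_comm_iff.1 hwt, hwz', by rw [ZType, map_mul]; exact hwzt⟩
    obtain ⟨hsi, hs3, hsz, hst, hsn, -⟩ := I.ks_spec hP hs
    have ho := forall_inv (others_ok six) hsi
    have e1 : inCD six 3 (code s) = true := by rw [inCD, (cm_rep (by norm_num)).2 hs3, (hP s).1 hsz]; rfl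
    have e2 : inDc six (tagS (mulF (code s) (repc 3))) = false := by
      refine Bool.eq_false_iff.2 fun e => hst ((hP _).2 ?_)
      rwa [code_mul_rep s (by norm_num)]
    have e3 : memL (code s) (rs six) = false := Bool.eq_false_iff.2 fun e => hsn (memL_iff.1 e)
    rw [e1, e2, e3] at ho
    simp only [Bool.not_true, Bool.false_or, otherOK, Bool.and_eq_true, List.all_eq_true] at ho
    have h' := ho.1 _ (code_mem_invCodes (I.isInv_of_isX hP (by norm_num) huX))
    rw [huX, cm_code.2 (I.ι_comm_iff.1 hws.symm)] at h'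
    exact I.good_f2 hP (memL_iff.1 (by simpa using h'))

/-- For each involution of `ks`: commuting with `z`, or with one of its products with a listed one. -/
theorem line (hP : I.Pat six) {s : Mdl} (hs : code s ∈ ks six) {y : G} (hy : I.InR y) :
    y * z = z * y ∨ ∃ r : Mdl, code r ∈ rs six ∧ s * r = r * s ∧ y * I.ι (s * r) = I.ι (s * r) * y := by
  obtain ⟨hsi, hs3, -, -, -, -⟩ := I.ks_spec hP hs
  have hst : I.ι s * I.tW = I.tW * I.ι s := I.ι_comm_iff.2 hs3
  have hss := I.ι_sq hsi
  rcases Nat.even_or_odd (orderOf (I.ι s * y)) with he | ho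
  swap
  · exfalso
    obtain ⟨g, hg, hgc⟩ := Pair.odd hss hy.sq ho
    have hgt : g * I.tW = I.tW * g := hgc _ hst.symm hy.comm.symm
    have := hy.conj (c := g⁻¹) (show Commute g I.tW from hgt).inv_left.eq
    refine I.ks_not_inR hP hs ?_
    rwa [inv_inv, show g⁻¹ * y * g = I.ι s by rw [← hg]; group] at this
  obtain ⟨k, hk⟩ := even_iff_exists_two_mul.1 he
  obtain ⟨w, g, hw1, hws, hwy, hwt, hgt, hcase⟩ := CentT.evenT hss hy.sq hst hy.comm hk
  rcases hcase with hcase | hcase
  · right
    have hR : I.InR (I.ι s * w) := hcase ▸ hy.conj hgt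
    have hc : I.ι s * w * I.ι s = I.ι s * (I.ι s * w) := by rw [mul_assoc, hws]
    obtain ⟨r, hr, hre⟩ := I.mem_rsG hP hR (I.good_ks hP hs _ hR hc)
    have hwe : I.ι (s * r) = w := by rw [map_mul, hre, ← mul_assoc, hss, one_mul]
    refine ⟨r, hr, I.ι_comm_iff.1 ?_, by rw [hwe]; exact hwy.symm⟩
    rw [hre]; exact hc.symm
  · exact Or.inl (I.good_of_conj hP hs hy hw1 hwy hws hwt (hcase ▸ hy.conj hgt) y hy hwy.symm)

theorem good_kills (hP : I.Pat six) {h : Mdl} (hm : code h ∈ kills six) : I.Good (I.ι h) := by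
  have base : ∀ q : Mdl, code q ∈ killBase six → I.Good (I.ι q) := by
    intro q hq
    rw [killBase, List.mem_append, List.mem_append] at hq
    rcases hq with (hq | hq) | hq
    · exact I.good_rs hP ⟨q, hq, rfl⟩
    · exact I.good_f2 hP hq
    · exact I.good_ks hP hq
  rw [kills, List.mem_append, List.mem_map] at hm
  rcases hm with hm | ⟨a, ha, hae⟩
  · exact base h hm
  · have hK : inK a = true := by
      have ha' := ha
      rw [killBase, List.mem_append, List.mem_append] at ha'
      rcases ha' with (ha' | ha') | ha'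
      · exact List.all_eq_true.1 (code_lists six).1 a ha'
      · have := List.all_eq_true.1 (f2_ok six) a ha'
        simp only [f2OK, Bool.and_eq_true] at this
        exact this.1.1.1
      · have := List.all_eq_true.1 (ks_ok six).1 a ha'
        simp only [ksOK, Bool.and_eq_true] at this
        exact this.1.1.1.1.1
    have e : h = rep 3 * el a := code_inj (by rw [code_mul, code_rep (by norm_num), code_el hK, hae])
    rw [e, map_mul]
    exact Good.of_tW I (base (el a) (by rw [code_el hK]; exact ha))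

/-- The conjugates of `z` under the centralizer of the second class. -/
theorem inR_iff (hP : I.Pat six) {y : G} : I.InR y ↔ y ∈ I.rsG six := by
  refine ⟨fun hy => I.mem_rsG hP hy ?_, ?_⟩
  swap
  · rintro ⟨g, hg, rfl⟩
    exact I.rs_inR hP hg
  obtain ⟨-, hA, hB⟩ := code_lists six
  have hAs : code (el (ksA six)) ∈ ks six := by rw [code_el hA]; exact memL_iff.1 (ks_ok six).2.1
  have hBs : code (el (ksB six)) ∈ ks six := by rw [code_el hB]; exact memL_iff.1 (ks_ok six).2.2
  rcases I.line hP hAs hy with h | ⟨r, hr, hrc, hr'⟩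
  · exact h
  rcases I.line hP hBs hy with h | ⟨q, hq, hqc, hq'⟩
  · exact h
  have h := List.all_eq_true.1 (ab_ok six) _ hr
  rw [show cm (ksA six) (code r) = true by rw [← code_el hA]; exact cm_code.2 hrc] at h
  simp only [Bool.not_true, Bool.false_or, List.all_eq_true] at h
  have h' := h _ hq
  rw [show cm (ksB six) (code q) = true by rw [← code_el hB]; exact cm_code.2 hqc] at h'
  simp only [Bool.not_true, Bool.false_or, Bool.or_eq_true, memL_iff] at h'
  rw [← code_el hA, ← code_el hB, ← code_mul, ← code_mul, ← code_mul] at h'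
  rcases h' with (h' | h') | h'
  · exact I.good_kills hP h' y hy hr'
  · exact I.good_kills hP h' y hy hq'
  · refine I.good_kills hP h' y hy ?_
    rw [map_mul I.ι (el (ksA six) * r)]
    exact ((show Commute y _ from hr').mul_right hq').eq

/-- The order of the centralizer of the second class. -/
theorem card_centralizer (hP : I.Pat six) :
    Nat.card (centralizer ({I.tW} : Set G)) = 512 * (bif six then 15 else 3) := by
  let φ : ↥(centralizer ({I.tW} : Set G)) →* ConjAct G :=
    ConjAct.toConjAct.toMonoidHom.comp (centralizer ({I.tW} : Set G)).subtype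
  letI : MulAction ↥(centralizer ({I.tW} : Set G)) G := MulAction.compHom G φ
  have hsmul : ∀ (k : ↥(centralizer ({I.tW} : Set G))) (x : G), k • x = (k : G) * x * (k : G)⁻¹ :=
    fun k x => rfl
  have horb : MulAction.orbit ↥(centralizer ({I.tW} : Set G)) z = I.rsG six := by
    ext y
    rw [← I.inR_iff hP]
    constructor
    · rintro ⟨k, rfl⟩
      exact ⟨k, (hsmul k z).symm, mem_centralizer_singleton_iff.1 k.2⟩
    · rintro ⟨c, rfl, hc⟩
      exact ⟨⟨c, mem_centralizer_singleton_iff.2 hc⟩, hsmul _ z⟩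
  have hst : Nat.card (MulAction.stabilizer ↥(centralizer ({I.tW} : Set G)) z) = 512 := by
    rw [← card_C3]
    refine (Nat.card_congr (Equiv.ofBijective (fun q : ↥(centralizer ({rep 3} : Set Mdl)) =>
      (⟨⟨I.ι q.1, mem_centralizer_singleton_iff.2 (I.ι_comm_iff.2 (mem_centralizer_singleton_iff.1 q.2))⟩, by
        rw [MulAction.mem_stabilizer_iff, hsmul]
        show I.ι q.1 * z * (I.ι q.1)⁻¹ = z
        rw [I.ι_comm, mul_inv_cancel_right]⟩ :
        ↥(MulAction.stabilizer ↥(centralizer ({I.tW} : Set G)) z))) ⟨?_, ?_⟩)).symm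
    · intro a b e
      exact Subtype.ext (I.ι_inj (congrArg
        (fun k : ↥(MulAction.stabilizer ↥(centralizer ({I.tW} : Set G)) z) => k.1.1) e))
    · rintro ⟨⟨k, hk⟩, hk'⟩
      rw [MulAction.mem_stabilizer_iff, hsmul, mul_inv_eq_iff_eq_mul] at hk'
      obtain ⟨q, rfl⟩ := I.exists_ι hk'
      exact ⟨⟨q, mem_centralizer_singleton_iff.2 (I.ι_comm_iff.1 (mem_centralizer_singleton_iff.1 hk))⟩, rfl⟩
  have h := (MulAction.stabilizer ↥(centralizer ({I.tW} : Set G)) z).index_mul_card
  rw [MulAction.index_stabilizer, hst, horb, rsG, Set.ncard_image_of_injective _ I.ι_inj,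
    ← Nat.card_coe_set_eq] at h
  rw [← h, mul_comm, show Nat.card {g : Mdl | code g ∈ rs six} = (bif six then 15 else 3) from
    (card_eq_list (rs_list six).1 (List.all_eq_true.1 (code_lists six).1) fun _ => Iff.rfl).trans
      (rs_list six).2.1]

/-- The two cases. -/
theorem card_cent_tW (S : I.Sides) (h7 : ¬ I.ZType (rep 7)) :
    (I.ZType (rep 6) → Nat.card (centralizer ({I.ι (rep 3)} : Set G)) = 7680) ∧
      (¬ I.ZType (rep 6) → Nat.card (centralizer ({I.ι (rep 3)} : Set G)) = 1536) := by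
  refine ⟨fun h => ?_, fun h => ?_⟩
  · exact I.card_centralizer (I.pat_of S h7 (six := true) (iff_of_true rfl h))
  · exact I.card_centralizer (I.pat_of S h7 (six := false) (iff_of_false Bool.false_ne_true h))

end Iso

end Cfsg.Agent.HeLocal
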